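import Mathlib
import Groth.Agent.S2195
import Groth.Agent.S0249

set_option linter.style.haveILetI false
set_option linter.unusedVariables false
set_option linter.unusedSectionVars false
set_option autoImplicit false
set_option backward.isDefEq.respectTransparency.types false

universe u v

namespace Groth.Agent.Helper7.DiscPur

open TensorProduct

section BaseChange

variable {A : Type u} {B : Type v} [CommRing A] [CommRing B] [Algebra A B]
  (K : Type u) [CommRing K] [Algebra A K]

theorem trace_baseChange_tmul [Module.Free A B] [Module.Finite A B] (x : B) :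
    Algebra.trace K (K ⊗[A] B) (1 ⊗ₜ x) = algebraMap A K (Algebra.trace A B x) := by
  rw [Algebra.trace_apply, Algebra.trace_apply, ← LinearMap.trace_baseChange]
  congr 1
  apply TensorProduct.AlgebraTensorModule.curry_injective
  ext m
  simp [Algebra.TensorProduct.tmul_mul_tmul]

theorem discr_baseChange {ι : Type} [Fintype ι] [DecidableEq ι] (b : Module.Basis ι A B) :
    Algebra.discr K (Algebra.TensorProduct.basis K b) = algebraMap A K (Algebra.discr A b) := by
  haveI : Module.Free A B := Module.Free.of_basis b
  haveI : Module.Finite A B := Module.Finite.of_basis b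
  rw [Algebra.discr_def, Algebra.discr_def, RingHom.map_det]
  congr 1
  ext i j
  simp only [Algebra.traceMatrix_apply, Algebra.traceForm_apply, RingHom.mapMatrix_apply,
    Matrix.map_apply, Algebra.TensorProduct.basis_apply, Algebra.TensorProduct.tmul_mul_tmul,
    mul_one]
  exact trace_baseChange_tmul K _

end BaseChange

section Ramified

variable {A : Type u} {B : Type v} [CommRing A] [CommRing B] [Algebra A B]

/-- the contraction of a prime of the fibre ring lies over the prime -/
theorem liesOver_comap_fiber (p : Ideal A) [p.IsPrime] (Q : Ideal (p.Fiber B)) [Q.IsPrime] :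
    (Q.comap (Algebra.TensorProduct.includeRight (R := A) (A := p.ResidueField)
      (B := B)).toRingHom).LiesOver p := by
  constructor
  ext a
  rw [Ideal.mem_comap, Ideal.mem_comap]
  change a ∈ p ↔ (1 : p.ResidueField) ⊗ₜ[A] (algebraMap A B a) ∈ Q
  have h1 : (1 : p.ResidueField) ⊗ₜ[A] (algebraMap A B a) =
      algebraMap p.ResidueField (p.Fiber B) (algebraMap A p.ResidueField a) := by
    rw [Algebra.TensorProduct.algebraMap_apply, Algebra.algebraMap_eq_smul_one,
      Algebra.algebraMap_eq_smul_one (R := A) (A := p.ResidueField), Algebra.algebraMap_self,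
      RingHom.id_apply, TensorProduct.smul_tmul]
  rw [h1]
  constructor
  · intro ha
    rw [(Ideal.algebraMap_residueField_eq_zero).mpr ha, map_zero]
    exact Ideal.zero_mem _
  · intro ha
    by_contra hna
    have hne : algebraMap A p.ResidueField a ≠ 0 :=
      fun h => hna (Ideal.algebraMap_residueField_eq_zero.mp h)
    have hu : IsUnit (algebraMap p.ResidueField (p.Fiber B) (algebraMap A p.ResidueField a)) :=
      (IsUnit.mk0 _ hne).map _
    exact (inferInstance : Q.IsPrime).ne_top (Ideal.eq_top_of_isUnit_mem _ ha hu)

/-- if the discriminant of a finite free algebra lies in a prime, the algebra is ramified at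
some prime over it -/
theorem exists_not_isUnramifiedAt_of_discr_mem {ι : Type} [Fintype ι] [DecidableEq ι]
    (b : Module.Basis ι A B) (p : Ideal A) [p.IsPrime] (hd : Algebra.discr A b ∈ p) :
    ∃ (q : Ideal B) (_ : q.IsPrime), q.LiesOver p ∧ ¬ Algebra.IsUnramifiedAt A q := by
  by_contra hcon
  push Not at hcon
  have hunr : Algebra.FormallyUnramified p.ResidueField (p.Fiber B) := by
    rw [Algebra.formallyUnramified_iff_forall]
    intro Q
    haveI := liesOver_comap_fiber p Q.asIdeal
    haveI : Algebra.IsUnramifiedAt A (Q.asIdeal.comap (Algebra.TensorProduct.includeRight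
      (R := A) (A := p.ResidueField) (B := B)).toRingHom) := hcon _ inferInstance inferInstance
    exact Algebra.IsUnramifiedAt.residueField p _ Q.asIdeal rfl
  have h1 := Groth.Agent.S2195.forward (Algebra.TensorProduct.basis p.ResidueField b) hunr
  rw [discr_baseChange, (Ideal.algebraMap_residueField_eq_zero).mpr hd] at h1
  exact not_isUnit_zero h1

/-- a finite free algebra over a Noetherian local ring of positive dimension, unramified over
all primes of height one, is etale -/
theorem etale_of_unramified_height_one {A : Type u} {B : Type v} [CommRing A] [CommRing B]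
    [Algebra A B] [IsNoetherianRing A] [IsLocalRing A]
    (hdim : (1 : WithBot ℕ∞) ≤ ringKrullDim A)
    {ι : Type} [Fintype ι] [DecidableEq ι] (b : Module.Basis ι A B)
    (H : ∀ (q : Ideal B) [q.IsPrime], (q.under A).height = 1 → Algebra.IsUnramifiedAt A q) :
    Algebra.Etale A B := by
  rw [Groth.Agent.S2195.result b]
  by_contra hd
  have hdm : Algebra.discr A b ∈ IsLocalRing.maximalIdeal A := by
    rwa [IsLocalRing.mem_maximalIdeal, mem_nonunits_iff]
  obtain ⟨p, hp, hdp, hht⟩ := Groth.Agent.S0249.result A hdim _ hdm
  haveI := hp
  obtain ⟨q, hq, hqp, hram⟩ := exists_not_isUnramifiedAt_of_discr_mem b p hdp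
  haveI := hq
  apply hram
  apply H q
  rw [← hqp.over]
  exact hht

end Ramified

section Global

variable {A₀ B₀ : Type u} [CommRing A₀] [CommRing B₀] [Algebra A₀ B₀]

/-- the local ring of a localization at a prime is the local ring at the contraction -/
noncomputable def atPrimeEquiv (M : Submonoid B₀) (Q : Ideal (Localization M)) [Q.IsPrime] :
    Localization.AtPrime (Q.comap (algebraMap B₀ (Localization M))) ≃ₐ[B₀]
      Localization.AtPrime Q :=
  haveI : IsLocalization.AtPrime (Localization.AtPrime Q)
      (Q.comap (algebraMap B₀ (Localization M))) :=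
    IsLocalization.isLocalization_isLocalization_atPrime_isLocalization M
      (Localization.AtPrime Q) Q
  IsLocalization.algEquiv (Q.comap (algebraMap B₀ (Localization M))).primeCompl _ _

/-- Let `B₀` be a finite flat algebra over a Noetherian ring `A₀` and `p₀` a prime of `A₀` of
positive height. If `B₀` is unramified at all primes lying over primes of height one contained in
`p₀`, then `B₀` is unramified at all primes over `p₀`. -/
theorem isUnramifiedAt_of_unramified_height_one [IsNoetherianRing A₀] [Module.Finite A₀ B₀]
    [Module.Flat A₀ B₀] (p₀ : Ideal A₀) [p₀.IsPrime] (hht : 1 ≤ p₀.height)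
    (H : ∀ (q : Ideal B₀) [q.IsPrime], q.under A₀ ≤ p₀ → (q.under A₀).height = 1 →
      Algebra.IsUnramifiedAt A₀ q)
    (q₀ : Ideal B₀) [q₀.IsPrime] (hq₀ : q₀.under A₀ = p₀) : Algebra.IsUnramifiedAt A₀ q₀ := by
  classical
  let A := Localization.AtPrime p₀
  let M := Algebra.algebraMapSubmonoid B₀ p₀.primeCompl
  let B := Localization M
  haveI : Module.Free A B := Module.free_of_flat_of_isLocalRing
  have hdim : (1 : WithBot ℕ∞) ≤ ringKrullDim A := by
    rw [IsLocalization.AtPrime.ringKrullDim_eq_height p₀ A]
    exact_mod_cast hht
  have hunderle : ∀ P : Ideal A, P.IsPrime → P.under A₀ ≤ p₀ := by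
    intro P hP
    have h1 := (IsLocalization.disjoint_under_iff p₀.primeCompl A P).mpr hP.ne_top
    intro a ha
    by_contra hna
    exact (Set.disjoint_left.mp h1) hna ha
  have hE : Algebra.Etale A B := by
    apply etale_of_unramified_height_one hdim (Module.finBasis A B)
    intro Q hQ hQht
    haveI : (Q.comap (algebraMap B₀ B)).IsPrime := Ideal.comap_isPrime _ _
    have hunder : (Q.comap (algebraMap B₀ B)).under A₀ = (Q.under A).under A₀ := by
      change (Q.comap (algebraMap B₀ B)).comap (algebraMap A₀ B₀) =
        (Q.comap (algebraMap A B)).comap (algebraMap A₀ A)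
      rw [Ideal.comap_comap, Ideal.comap_comap, ← IsScalarTower.algebraMap_eq,
        ← IsScalarTower.algebraMap_eq]
    haveI : (Q.under A).IsPrime := Ideal.comap_isPrime _ _
    have h1 : Algebra.IsUnramifiedAt A₀ (Q.comap (algebraMap B₀ B)) := by
      apply H
      · rw [hunder]; exact hunderle _ inferInstance
      · rw [hunder, IsLocalization.height_under p₀.primeCompl]; exact hQht
    haveI : Algebra.FormallyUnramified A₀ (Localization.AtPrime Q) :=
      Algebra.FormallyUnramified.of_equiv ((atPrimeEquiv M Q).restrictScalars A₀)
    exact Algebra.FormallyUnramified.of_restrictScalars A₀ A _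
  haveI : Algebra.FormallyUnramified A B := inferInstance
  have hdisj : Disjoint (M : Set B₀) (q₀ : Set B₀) := by
    rw [Set.disjoint_left]
    rintro _ ⟨a, ha, rfl⟩ hmem
    apply ha
    rw [← hq₀]
    exact hmem
  haveI hQ₀ : (q₀.map (algebraMap B₀ B)).IsPrime :=
    IsLocalization.isPrime_of_isPrime_disjoint M B q₀ inferInstance hdisj
  have hcomap : (q₀.map (algebraMap B₀ B)).comap (algebraMap B₀ B) = q₀ :=
    IsLocalization.under_map_of_isPrime_disjoint M B inferInstance hdisj
  have h2 : Algebra.IsUnramifiedAt A (q₀.map (algebraMap B₀ B)) :=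
    Algebra.formallyUnramified_iff_forall.mp inferInstance ⟨_, hQ₀⟩
  haveI : Algebra.FormallyUnramified A₀ A :=
    Algebra.FormallyUnramified.of_isLocalization p₀.primeCompl
  haveI : Algebra.FormallyUnramified A₀ (Localization.AtPrime (q₀.map (algebraMap B₀ B))) :=
    Algebra.FormallyUnramified.comp A₀ A _
  have e := (atPrimeEquiv M (q₀.map (algebraMap B₀ B))).restrictScalars A₀
  have h3 : Algebra.IsUnramifiedAt A₀
      ((q₀.map (algebraMap B₀ B)).comap (algebraMap B₀ B)) :=
    Algebra.FormallyUnramified.of_equiv e.symm
  convert h3 using 2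
  exact hcomap.symm

end Global

end Groth.Agent.Helper7.DiscPur
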