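import Mathlib
import Groth.Agent.Lib.Helper7.DiscPur.Alg
import Groth.Agent.Lib.Helper7.UnramBC.Main

set_option linter.style.haveILetI false
set_option linter.unusedVariables false
set_option linter.unusedSectionVars false
set_option autoImplicit false
set_option backward.isDefEq.respectTransparency.types false

universe u

/-! helper7: flat + quasi-finite at a prime: equality of heights; unramifiedness at primes vs localization and base change; flat quasi-finite algebras unramified in codimension one are unramified (via the etale local structure of quasi-finite algebras) -/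

namespace Groth.Agent.Helper7.DiscPur

open TensorProduct

section Height

variable {A B : Type*} [CommRing A] [CommRing B] [Algebra A B]

/-- for a flat algebra which is quasi-finite at a prime, the height of the prime equals the height
of its contraction -/
theorem height_eq_height_under_of_flat_of_quasiFiniteAt [IsNoetherianRing A] [IsNoetherianRing B] [Module.Flat A B]
    (Q : Ideal B) [Q.IsPrime] [Algebra.QuasiFiniteAt A Q] : Q.height = (Q.under A).height := by
  haveI : Q.LiesOver (Q.under A) := ⟨rfl⟩
  rw [Ideal.height_eq_height_add_of_liesOver_of_hasGoingDown (Q.under A) Q]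
  have hker : RingHom.ker (Ideal.Quotient.mk ((Q.under A).map (algebraMap A B))) ≤ Q := by
    rw [Ideal.mk_ker, Ideal.map_le_iff_le_comap]
  haveI hprime : (Q.map (Ideal.Quotient.mk ((Q.under A).map (algebraMap A B)))).IsPrime :=
    Ideal.map_isPrime_of_surjective Ideal.Quotient.mk_surjective hker
  suffices h : (Q.map (Ideal.Quotient.mk ((Q.under A).map (algebraMap A B)))).height = 0 by
    rw [h, add_zero]
  rw [Ideal.height_eq_zero_iff]
  refine ⟨⟨hprime, bot_le⟩, ?_⟩
  rintro J ⟨hJ, -⟩ hJle
  haveI := hJ
  set mk := Ideal.Quotient.mk ((Q.under A).map (algebraMap A B)) with hmk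
  -- the preimage of `J`
  have h1 : J.comap mk ≤ Q := by
    have := Ideal.comap_mono (f := mk) hJle
    rwa [Ideal.comap_map_of_surjective mk Ideal.Quotient.mk_surjective,
      sup_eq_left.mpr (by rw [← RingHom.ker_eq_comap_bot]; exact hker)] at this
  have h2 : (J.comap mk).under A = Q.under A := by
    apply le_antisymm
    · exact Ideal.comap_mono h1
    · intro a ha
      change mk (algebraMap A B a) ∈ J
      have : mk (algebraMap A B a) = 0 := by
        rw [hmk, Ideal.Quotient.eq_zero_iff_mem]
        exact Ideal.mem_map_of_mem _ ha
      rw [this]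
      exact J.zero_mem
  have h3 : J.comap mk = Q := Algebra.QuasiFiniteAt.eq_of_le_of_under_eq h1 h2
  calc Ideal.map mk Q = Ideal.map mk (J.comap mk) := by rw [h3]
    _ = J := Ideal.map_comap_of_surjective mk Ideal.Quotient.mk_surjective J
    _ ≤ J := le_rfl

end Height

section Main

/-- unramifiedness at a prime of a localization -/
theorem isUnramifiedAt_localization_iff {A₀ B₀ : Type u} [CommRing A₀] [CommRing B₀]
    [Algebra A₀ B₀] (M : Submonoid B₀) (Q : Ideal (Localization M)) [Q.IsPrime] :
    Algebra.IsUnramifiedAt A₀ Q ↔
      Algebra.IsUnramifiedAt A₀ (Q.comap (algebraMap B₀ (Localization M))) :=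
  ⟨fun h => Algebra.FormallyUnramified.of_equiv ((atPrimeEquiv M Q).restrictScalars A₀).symm,
   fun h => Algebra.FormallyUnramified.of_equiv ((atPrimeEquiv M Q).restrictScalars A₀)⟩

/-- unramifiedness at a prime and base change -/
theorem isUnramifiedAt_baseChange_iff {R R' S : Type u} [CommRing R] [CommRing R'] [CommRing S]
    [Algebra R R'] [Algebra R S] [Algebra.FiniteType R S] (P' : Ideal (R' ⊗[R] S)) [P'.IsPrime] :
    Algebra.IsUnramifiedAt R' P' ↔
      Algebra.IsUnramifiedAt R
        (P'.comap (Algebra.TensorProduct.includeRight (R := R) (A := R') (B := S)).toRingHom) :=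
  Groth.Agent.Helper7.UnramBC.mem_unramifiedLocus_baseChange_iff (A₀ := R) (A := R') (B₀ := S)
    ⟨P', inferInstance⟩

variable {R S : Type u} [CommRing R] [CommRing S] [Algebra R S]

/-- Let `S` be a flat algebra of finite type over a Noetherian ring `R`, quasi-finite at a prime `q`
of positive height. If `S` is unramified at the primes of height one contained in `q`, then it is
unramified at `q`. -/
theorem isUnramifiedAt_of_flat_of_quasiFiniteAt [IsNoetherianRing R] [Algebra.FiniteType R S]
    [Module.Flat R S] (q : Ideal S) [q.IsPrime] [Algebra.QuasiFiniteAt R q] (hht : 1 ≤ q.height)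
    (H : ∀ (q' : Ideal S) [q'.IsPrime], q' ≤ q → q'.height = 1 → Algebra.IsUnramifiedAt R q') :
    Algebra.IsUnramifiedAt R q := by
  classical
  let p := q.under R
  haveI : q.LiesOver p := ⟨rfl⟩
  haveI : IsNoetherianRing S := Algebra.FiniteType.isNoetherianRing R S
  obtain ⟨R', _, _, _, P, _, _, e, he, P', _, _, hP'q, heP', hκ, hfin, huniq⟩ :=
    Algebra.exists_etale_isIdempotentElem_forall_liesOver_eq p q
  haveI : IsNoetherianRing R' := Algebra.FiniteType.isNoetherianRing R R'
  haveI : Module.Flat R R' := inferInstance
  have hPp : P.under R = p := (P.over_def p).symm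
  have hPht : P.height = p.height := by
    haveI : Algebra.QuasiFiniteAt R P := inferInstance
    rw [height_eq_height_under_of_flat_of_quasiFiniteAt (A := R) P, hPp]
  have hqht : q.height = p.height := height_eq_height_under_of_flat_of_quasiFiniteAt (A := R) q
  haveI : Module.Flat R' (Localization.Away e) := Module.Flat.trans R' (R' ⊗[R] S) _
  have hdisj : Disjoint (Submonoid.powers e : Set (R' ⊗[R] S)) (P' : Set (R' ⊗[R] S)) := by
    rwa [Ideal.disjoint_powers_iff_notMem_of_isPrime]
  haveI hQ : (P'.map (algebraMap (R' ⊗[R] S) (Localization.Away e))).IsPrime :=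
    IsLocalization.isPrime_of_isPrime_disjoint (.powers e) _ P' inferInstance hdisj
  have hcomapQ : (P'.map (algebraMap (R' ⊗[R] S) (Localization.Away e))).comap
      (algebraMap (R' ⊗[R] S) (Localization.Away e)) = P' :=
    IsLocalization.under_map_of_isPrime_disjoint (.powers e) _ inferInstance hdisj
  have hQunder : (P'.map (algebraMap (R' ⊗[R] S) (Localization.Away e))).under R' = P := by
    rw [Ideal.under_def, IsScalarTower.algebraMap_eq R' (R' ⊗[R] S) (Localization.Away e),
      ← Ideal.comap_comap, hcomapQ]
    exact (P'.over_def P).symm
  have key : Algebra.IsUnramifiedAt R' (P'.map (algebraMap (R' ⊗[R] S) (Localization.Away e))) := by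
    apply isUnramifiedAt_of_unramified_height_one P
    · rw [hPht, ← hqht]; exact hht
    · intro Q' hQ' hle hht'
      haveI : Algebra.IsIntegral R' (Localization.Away e) := Algebra.IsIntegral.of_finite R' _
      obtain ⟨Q'', hQ''ge, hQ''prime, hQ''P⟩ :=
        Ideal.exists_ideal_over_prime_of_isIntegral P Q' hle
      haveI := hQ''prime
      have hQ''eq : Q''.comap (algebraMap (R' ⊗[R] S) (Localization.Away e)) = P' := by
        apply huniq
        · exact Ideal.comap_isPrime _ _
        · constructor
          rw [Ideal.under_def, Ideal.comap_comap, ← IsScalarTower.algebraMap_eq, hQ''P]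
        · intro hmem
          exact hQ''prime.ne_top (Ideal.eq_top_of_isUnit_mem _ hmem
            (IsLocalization.Away.algebraMap_isUnit e))
      have hQ'le : Q' ≤ P'.map (algebraMap (R' ⊗[R] S) (Localization.Away e)) := by
        calc Q' ≤ Q'' := hQ''ge
          _ = (Q''.comap (algebraMap (R' ⊗[R] S) (Localization.Away e))).map
              (algebraMap (R' ⊗[R] S) (Localization.Away e)) :=
            (IsLocalization.map_under (.powers e) _ Q'').symm
          _ = _ := by rw [hQ''eq]
      have hq₁le : (Q'.comap (algebraMap (R' ⊗[R] S) (Localization.Away e))).comap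
          (Algebra.TensorProduct.includeRight (R := R) (A := R') (B := S)).toRingHom ≤ q := by
        rw [← hP'q]
        apply Ideal.comap_mono
        rw [← hcomapQ]
        exact Ideal.comap_mono hQ'le
      haveI : Algebra.QuasiFiniteAt R
          ((Q'.comap (algebraMap (R' ⊗[R] S) (Localization.Away e))).comap
          (Algebra.TensorProduct.includeRight (R := R) (A := R') (B := S)).toRingHom) :=
        Algebra.QuasiFiniteAt.of_le hq₁le
      have hunder : ((Q'.comap (algebraMap (R' ⊗[R] S) (Localization.Away e))).comap
          (Algebra.TensorProduct.includeRight (R := R) (A := R') (B := S)).toRingHom).under R =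
          (Q'.under R').under R := by
        simp only [Ideal.under_def, Ideal.comap_comap]
        congr 1
        ext r
        simp [IsScalarTower.algebraMap_apply R' (R' ⊗[R] S) (Localization.Away e)]
      have hq₁ht : ((Q'.comap (algebraMap (R' ⊗[R] S) (Localization.Away e))).comap
          (Algebra.TensorProduct.includeRight (R := R) (A := R') (B := S)).toRingHom).height =
          1 := by
        rw [height_eq_height_under_of_flat_of_quasiFiniteAt (A := R), hunder]
        haveI : Algebra.QuasiFiniteAt R (Q'.under R') := inferInstance
        rw [← height_eq_height_under_of_flat_of_quasiFiniteAt (A := R) (Q'.under R'), hht']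
      have h1 := H _ hq₁le hq₁ht
      have h2 := (isUnramifiedAt_baseChange_iff
        (Q'.comap (algebraMap (R' ⊗[R] S) (Localization.Away e)))).mpr h1
      exact (isUnramifiedAt_localization_iff (.powers e) Q').mpr h2
    · exact hQunder
  have h3 := (isUnramifiedAt_localization_iff (.powers e) _).mp key
  have h4 : Algebra.IsUnramifiedAt R' P' := by
    convert h3 using 2
    exact hcomapQ.symm
  have h5 := (isUnramifiedAt_baseChange_iff P').mp h4
  convert h5 using 2
  exact hP'q.symm

end Main

end Groth.Agent.Helper7.DiscPur
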