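import Mathlib
import Groth.Agent.Lib.Helper7.DiscPur.Alg
import Groth.Agent.Lib.Helper8.Depth7

set_option linter.style.haveILetI false
set_option linter.unusedVariables false
set_option linter.unusedSectionVars false
set_option autoImplicit false
set_option backward.isDefEq.respectTransparency.types false

universe u

/-! helper7: finite flat morphisms etale outside codimension two are etale -/

namespace Groth.Agent.Helper7.DiscPur

open CategoryTheory CategoryTheory.Limits AlgebraicGeometry

section Bridge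

variable {X Y : Scheme.{u}}

/-- formal unramifiedness of the stalk map in terms of affine charts -/
theorem formallyUnramified_stalkMap_iff {f : X ⟶ Y} {x : X} (U : Y.Opens)
    (hU : IsAffineOpen U) (V : X.Opens) (hV : IsAffineOpen V) (hVU : V ≤ f ⁻¹ᵁ U)
    (hx : x ∈ V) :
    letI := (f.appLE U V hVU).hom.toAlgebra
    (f.stalkMap x).hom.FormallyUnramified ↔
      Algebra.IsUnramifiedAt Γ(Y, U) (hV.primeIdealOf ⟨x, hx⟩).asIdeal := by
  let := (f.appLE U V hVU).hom.toAlgebra
  let p := (hU.primeIdealOf ⟨f x, hVU hx⟩).asIdeal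
  let q := (hV.primeIdealOf ⟨x, hx⟩).asIdeal
  have : q.LiesOver p :=
    ⟨congr($(IsAffineOpen.comap_primeIdealOf_appLE U hU V hV hVU hx).1).symm⟩
  let := Localization.AtPrime.algebraOfLiesOver p q
  trans Algebra.FormallyUnramified (Localization.AtPrime p) (Localization.AtPrime q)
  · rw [← RingHom.formallyUnramified_algebraMap]
    exact RingHom.FormallyUnramified.respectsIso.arrow_mk_iso_iff
      (IsAffineOpen.arrowStalkMapIso f U hU V hV hVU hx)
  · constructor
    · intro h
      haveI : Algebra.FormallyUnramified Γ(Y, U) (Localization.AtPrime p) :=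
        Algebra.FormallyUnramified.of_isLocalization p.primeCompl
      exact Algebra.FormallyUnramified.comp Γ(Y, U) (Localization.AtPrime p) _
    · intro h
      exact Algebra.FormallyUnramified.of_restrictScalars Γ(Y, U) _ _

end Bridge

section Finite

variable {X Y : Scheme.{u}}

/-- the stalk maps of a morphism which is etale over an open are formally unramified at the
points over the open -/
theorem formallyUnramified_stalkMap_of_mem (π : Y ⟶ X) (U : X.Opens)
    [Etale (pullback.snd π U.ι)] (y : Y) (hy : π y ∈ U) :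
    (π.stalkMap y).hom.FormallyUnramified := by
  obtain ⟨z, hz1, hz2⟩ := Scheme.Pullback.exists_preimage_pullback (f := π) (g := U.ι) y
    ⟨π y, hy⟩ rfl
  have h1 : ((pullback.snd π U.ι).stalkMap z).hom.FormallyUnramified :=
    FormallyUnramified.stalkMap _ z
  exact (RingHom.FormallyUnramified.respectsIso.arrow_mk_iso_iff
    (Scheme.stalkMapIsoOfIsPullback (.of_hasPullback π U.ι) z y hz1)).mpr h1

/-- the height of the prime of a point in an affine chart is the dimension of the local ring -/
theorem height_primeIdealOf {V : X.Opens} (hV : IsAffineOpen V) (x : X) (hx : x ∈ V) :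
    ((hV.primeIdealOf ⟨x, hx⟩).asIdeal.height : WithBot ℕ∞) =
      ringKrullDim (X.presheaf.stalk x) := by
  letI := X.presheaf.algebra_section_stalk ⟨x, hx⟩
  haveI := hV.isLocalization_stalk ⟨x, hx⟩
  exact (IsLocalization.AtPrime.ringKrullDim_eq_height (hV.primeIdealOf ⟨x, hx⟩).asIdeal
    (X.presheaf.stalk x)).symm

/-- Let `π` be finite and flat over a locally Noetherian scheme, formally unramified at the points
over an open `U` whose complement consists of points of codimension at least two. Then all stalk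
maps of `π` are formally unramified. -/
theorem formallyUnramified_stalkMap_of_finite_flat [IsLocallyNoetherian X] (π : Y ⟶ X)
    [IsFinite π] [Flat π] (U : X.Opens)
    (hU : ∀ x : X, x ∉ U → (2 : WithBot ℕ∞) ≤ ringKrullDim (X.presheaf.stalk x))
    (hunr : ∀ y : Y, π y ∈ U → (π.stalkMap y).hom.FormallyUnramified)
    (y : Y) : (π.stalkMap y).hom.FormallyUnramified := by
  by_cases hy : π y ∈ U
  · exact hunr y hy
  obtain ⟨V₀, hV₀, hxV₀, -⟩ := exists_isAffineOpen_mem_and_subset (x := π y) (U := ⊤) trivial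
  have hW₀ : IsAffineOpen (π ⁻¹ᵁ V₀) := hV₀.preimage π
  have hyW₀ : y ∈ π ⁻¹ᵁ V₀ := hxV₀
  letI := (π.appLE V₀ (π ⁻¹ᵁ V₀) le_rfl).hom.toAlgebra
  haveI : IsNoetherianRing Γ(X, V₀) := IsLocallyNoetherian.component_noetherian ⟨V₀, hV₀⟩
  haveI : Module.Finite Γ(X, V₀) Γ(Y, π ⁻¹ᵁ V₀) := by
    have h := π.finite_app V₀ hV₀
    rw [Scheme.Hom.app_eq_appLE] at h
    exact h
  haveI : Module.Flat Γ(X, V₀) Γ(Y, π ⁻¹ᵁ V₀) := π.flat_appLE hV₀ hW₀ le_rfl
  rw [formallyUnramified_stalkMap_iff V₀ hV₀ (π ⁻¹ᵁ V₀) hW₀ le_rfl hyW₀]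
  have hover : ∀ (y' : Y) (hy' : y' ∈ π ⁻¹ᵁ V₀),
      (hW₀.primeIdealOf ⟨y', hy'⟩).asIdeal.under Γ(X, V₀) =
        (hV₀.primeIdealOf ⟨π y', hy'⟩).asIdeal := fun y' hy' =>
    congr($(IsAffineOpen.comap_primeIdealOf_appLE V₀ hV₀ (π ⁻¹ᵁ V₀) hW₀ le_rfl hy').1)
  apply isUnramifiedAt_of_unramified_height_one (hV₀.primeIdealOf ⟨π y, hxV₀⟩).asIdeal
  · have h1 := hU _ hy
    rw [← height_primeIdealOf hV₀ (π y) hxV₀] at h1
    have h2 : (((2 : ℕ∞)) : WithBot ℕ∞) ≤
        ((hV₀.primeIdealOf ⟨π y, hxV₀⟩).asIdeal.height : WithBot ℕ∞) := h1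
    have h3 : (2 : ℕ∞) ≤ (hV₀.primeIdealOf ⟨π y, hxV₀⟩).asIdeal.height :=
      WithBot.coe_le_coe.mp h2
    exact le_trans (by norm_num) h3
  · intro q hq hqle hqht
    -- the point of `Y` corresponding to `q`
    have hmem : hW₀.fromSpec ⟨q, hq⟩ ∈ π ⁻¹ᵁ V₀ := by
      have h : hW₀.fromSpec ⟨q, hq⟩ ∈ Set.range hW₀.fromSpec := Set.mem_range_self _
      rw [hW₀.range_fromSpec] at h
      exact h
    have hq' : hW₀.primeIdealOf ⟨hW₀.fromSpec ⟨q, hq⟩, hmem⟩ = ⟨q, hq⟩ :=
      hW₀.fromSpec.isOpenEmbedding.injective (hW₀.fromSpec_primeIdealOf ⟨_, hmem⟩)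
    have hdim : ringKrullDim (X.presheaf.stalk (π (hW₀.fromSpec ⟨q, hq⟩))) = 1 := by
      rw [← height_primeIdealOf hV₀ _ hmem, ← hover _ hmem, hq']
      change ((q.under Γ(X, V₀)).height : WithBot ℕ∞) = 1
      rw [hqht]
      rfl
    have hinU : π (hW₀.fromSpec ⟨q, hq⟩) ∈ U := by
      by_contra hcon
      have := hU _ hcon
      rw [hdim] at this
      exact absurd this (by decide)
    have h3 := hunr _ hinU
    rw [formallyUnramified_stalkMap_iff V₀ hV₀ (π ⁻¹ᵁ V₀) hW₀ le_rfl hmem, hq'] at h3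
    exact h3
  · exact hover y hyW₀

/-- a finite flat morphism to a locally Noetherian scheme which is etale over an open whose
complement consists of points of codimension at least two is etale -/
theorem etale_of_finite_flat [IsLocallyNoetherian X] (π : Y ⟶ X)
    [IsFinite π] [Flat π] (U : X.Opens) [Etale (pullback.snd π U.ι)]
    (hU : ∀ x : X, x ∉ U → (2 : WithBot ℕ∞) ≤ ringKrullDim (X.presheaf.stalk x)) :
    Etale π := by
  rw [Etale.iff_flat_and_formallyUnramified]
  refine ⟨inferInstance, ?_, ?_⟩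
  · exact HasRingHomProperty.of_stalkMap RingHom.FormallyUnramified.ofLocalizationPrime
      (formallyUnramified_stalkMap_of_finite_flat π U hU
        (fun y hy => formallyUnramified_stalkMap_of_mem π U y hy))
  · rw [LocallyOfFinitePresentation.iff_locallyOfFiniteType]
    infer_instance

end Finite

end Groth.Agent.Helper7.DiscPur
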