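import Mathlib
import Groth.Agent.Lib.Helper7.DiscPur.QFHt
import Groth.Agent.Lib.Helper7.DiscPur.Sch
import Groth.Agent.Lib.Helper4.StalkEtale1

set_option linter.style.haveILetI false
set_option linter.unusedVariables false
set_option linter.unusedSectionVars false
set_option autoImplicit false
set_option backward.isDefEq.respectTransparency.types false

universe u

/-! helper7: flat lft morphisms of locally Noetherian schemes, quasi-finite at x and unramified at codimension one generizations of x, are etale near x -/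

namespace Groth.Agent.Helper7.DiscPur

open CategoryTheory CategoryTheory.Limits AlgebraicGeometry

section QF

variable {X Y : Scheme.{u}}

/-- Let `f` be flat and locally of finite type between locally Noetherian schemes, quasi-finite at
a point `x` whose local ring has positive dimension. If `f` is unramified at the generizations of
`x` of codimension one, then `f` is unramified at `x`. -/
theorem formallyUnramified_stalkMap_of_flat_of_quasiFiniteAt (f : X ⟶ Y) [LocallyOfFiniteType f]
    [Flat f] [IsLocallyNoetherian X] [IsLocallyNoetherian Y] (x : X) (hq : f.QuasiFiniteAt x)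
    (hdim1 : (1 : WithBot ℕ∞) ≤ ringKrullDim (X.presheaf.stalk x))
    (hunr : ∀ x' : X, x' ⤳ x → ringKrullDim (X.presheaf.stalk x') = 1 →
      (f.stalkMap x').hom.FormallyUnramified) :
    (f.stalkMap x).hom.FormallyUnramified := by
  obtain ⟨U, hU, hxU, -⟩ := exists_isAffineOpen_mem_and_subset (x := f x) (U := ⊤) trivial
  obtain ⟨V, hV, hxV, hVU⟩ := exists_isAffineOpen_mem_and_subset (x := x) (U := f ⁻¹ᵁ U) hxU
  letI := (f.appLE U V hVU).hom.toAlgebra
  haveI : IsNoetherianRing Γ(Y, U) := IsLocallyNoetherian.component_noetherian ⟨U, hU⟩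
  haveI : Algebra.FiniteType Γ(Y, U) Γ(X, V) := f.finiteType_appLE hU hV hVU
  haveI : Module.Flat Γ(Y, U) Γ(X, V) := f.flat_appLE hU hV hVU
  haveI : Algebra.QuasiFiniteAt Γ(Y, U) (hV.primeIdealOf ⟨x, hxV⟩).asIdeal :=
    hq.quasiFiniteAt hV hU hVU hxV
  rw [formallyUnramified_stalkMap_iff U hU V hV hVU hxV]
  apply isUnramifiedAt_of_flat_of_quasiFiniteAt
  · rw [← height_primeIdealOf hV x hxV] at hdim1
    have h2 : (((1 : ℕ∞)) : WithBot ℕ∞) ≤
        ((hV.primeIdealOf ⟨x, hxV⟩).asIdeal.height : WithBot ℕ∞) := hdim1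
    exact WithBot.coe_le_coe.mp h2
  · intro q' hq' hq'le hq'ht
    have hmem : hV.fromSpec ⟨q', hq'⟩ ∈ V := by
      have h : hV.fromSpec ⟨q', hq'⟩ ∈ Set.range hV.fromSpec := Set.mem_range_self _
      rw [hV.range_fromSpec] at h
      exact h
    have hq'' : hV.primeIdealOf ⟨hV.fromSpec ⟨q', hq'⟩, hmem⟩ = ⟨q', hq'⟩ :=
      hV.fromSpec.isOpenEmbedding.injective (hV.fromSpec_primeIdealOf ⟨_, hmem⟩)
    have hspec : hV.fromSpec ⟨q', hq'⟩ ⤳ x := by
      have h1 : (⟨q', hq'⟩ : PrimeSpectrum Γ(X, V)) ⤳ hV.primeIdealOf ⟨x, hxV⟩ := by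
        rw [← PrimeSpectrum.le_iff_specializes]
        exact hq'le
      have h2 := h1.map hV.fromSpec.continuous
      rwa [hV.fromSpec_primeIdealOf ⟨x, hxV⟩] at h2
    have hdim : ringKrullDim (X.presheaf.stalk (hV.fromSpec ⟨q', hq'⟩)) = 1 := by
      rw [← height_primeIdealOf hV _ hmem, hq'']
      change ((q'.height : ℕ∞) : WithBot ℕ∞) = 1
      rw [hq'ht]
      rfl
    have h3 := hunr _ hspec hdim
    rw [formallyUnramified_stalkMap_iff U hU V hV hVU hmem, hq''] at h3
    exact h3

/-- Let `f` be flat and locally of finite type between locally Noetherian schemes, quasi-finite at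
a point `x` whose local ring has positive dimension. If `f` is unramified at the generizations of
`x` of codimension one, then `f` is etale on a neighbourhood of `x`. -/
theorem exists_etale_nhd_of_flat_of_quasiFiniteAt (f : X ⟶ Y) [LocallyOfFiniteType f]
    [Flat f] [IsLocallyNoetherian X] [IsLocallyNoetherian Y] (x : X) (hq : f.QuasiFiniteAt x)
    (hdim1 : (1 : WithBot ℕ∞) ≤ ringKrullDim (X.presheaf.stalk x))
    (hunr : ∀ x' : X, x' ⤳ x → ringKrullDim (X.presheaf.stalk x') = 1 →
      (f.stalkMap x').hom.FormallyUnramified) :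
    ∃ U : X.Opens, x ∈ U ∧ Etale (U.ι ≫ f) := by
  haveI : LocallyOfFinitePresentation f :=
    LocallyOfFinitePresentation.iff_locallyOfFiniteType.2 inferInstance
  rw [Groth.Agent.Lib.Helper4.StalkEtale1.exists_etale_nhd_iff_flat_formallyUnramified]
  exact ⟨Flat.stalkMap f x,
    formallyUnramified_stalkMap_of_flat_of_quasiFiniteAt f x hq hdim1 hunr⟩

end QF

end Groth.Agent.Helper7.DiscPur
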